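import Mathlib
import Cfsg.Agent.Lib.LAE.SubnormalJoin
import Cfsg.Agent.Lib.Tech.SylowIn

/-! Casolo's theorem on subnormalizers of `p`-subgroups. -/

set_option autoImplicit false

namespace CfsgLib.GT

open Subgroup CfsgLib.Tech Finset

variable {G : Type*} [Group G] [Finite G] {p : ℕ} [Fact p.Prime]

/-- `g` normalizes a `p`-subgroup containing `H`. -/
def Sn (p : ℕ) (H : Subgroup G) (g : G) : Prop :=
  ∃ Q : Subgroup G, IsPGroup p Q ∧ H ≤ Q ∧ g ∈ normalizer (Q : Set G)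

theorem sn_iff {H : Subgroup G} (hH : IsPGroup p H) {g : G} :
    (H.subgroupOf (H ⊔ zpowers g)).IsSubnormal ↔ Sn p H g := by
  refine ⟨fun h => ⟨_, LAE.isPGroup_pCoreOf _, (LAE.subnormalIn_iff.2 ⟨le_sup_left, h⟩).le_pCoreOf hH,
    LAE.le_normalizer_pCoreOf _ (mem_sup_right (mem_zpowers g))⟩, fun ⟨Q, h1, h2, h3⟩ => ?_⟩
  have := h1.isNilpotent
  exact (((LAE.subnormalIn_iff.2 ⟨h2, SolvStruct.isSubnormal_of_isNilpotent _⟩).trans
    (.of_normal le_normalizer le_rfl)).mono le_sup_left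
      (sup_le (h2.trans le_normalizer) (zpowers_le.2 h3))).isSubnormal

open Classical in
theorem weisner {α : Type*} [SemilatticeSup α] [Fintype α] {H : α} {μ : α → ℤ}
    (hμ : ∀ y, H < y → ∑ x with H ≤ x ∧ x ≤ y, μ x = 0) (D : α → Prop) [DecidablePred D] (h1 : ∀ x, D x → H ≤ x)
    (h2 : ∀ x y, D x → H ≤ y → y ≤ x → D y) {a : α} (ha : H < a) (h3 : ∀ x, D x → D (x ⊔ a)) :
    ∑ x with D x, μ x = 0 := by
  have fib : ∀ (D : α → Prop) [DecidablePred D], (∀ x, D x → H ≤ x) → (∀ x y, D x → H ≤ y → y ≤ x → D y) →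
      (∀ x, D x → D (x ⊔ a)) → ∑ x with D x, μ x = ∑ y with D y, ∑ x with H ≤ x ∧ x ⊔ a = y, μ x :=
    fun D _ h1 h2 h3 => by
      rw [← sum_fiberwise_of_maps_to (s := {x | D x}) (t := {z | D z}) (g := (· ⊔ a)) fun x hx => by simp_all]
      refine sum_congr rfl fun y hy => sum_congr (Finset.ext fun x => ?_) fun _ _ => rfl
      simp only [mem_filter, mem_univ, true_and] at hy ⊢
      exact ⟨fun e => ⟨h1 x e.1, e.2⟩, fun e => ⟨h2 y x hy e.1 (e.2 ▸ le_sup_left), e.2⟩⟩
  have key : ∀ y, ∑ x with H ≤ x ∧ x ⊔ a = y, μ x = 0 := fun y => by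
    induction y using WellFoundedLT.induction with
    | ind y ih =>
    by_cases e : a ≤ y
    · have := hμ y (ha.trans_le e)
      rwa [fib _ (fun _ => And.left) (fun _ _ a b c => ⟨b, c.trans a.2⟩)
        (fun _ a => ⟨a.1.trans le_sup_left, sup_le a.2 e⟩), sum_eq_single_of_mem y (by simp [ha.le.trans e])
          fun z h4 h5 => ih z ((mem_filter.1 h4).2.2.lt_of_ne h5)] at this
    · exact sum_eq_zero fun x hx => absurd ((mem_filter.1 hx).2.2 ▸ le_sup_right) e
  rw [fib D h1 h2 h3]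
  exact sum_eq_zero fun y _ => key y

open Classical in
theorem exists_mu {α : Type*} [PartialOrder α] [Fintype α] (H : α) :
    ∃ μ : α → ℤ, μ H = 1 ∧ ∀ y, H < y → ∑ x with H ≤ x ∧ x ≤ y, μ x = 0 := by
  let _ : LocallyFiniteOrder α := Fintype.toLocallyFiniteOrder
  refine ⟨IncidenceAlgebra.mu ℤ H, IncidenceAlgebra.mu_self H, fun y hy => ?_⟩
  rw [← if_neg hy.ne (t := (1 : ℤ)) (e := 0), ← IncidenceAlgebra.sum_Icc_mu_right]
  exact sum_congr (by ext; simp) fun _ _ => rfl

omit [Finite G] in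
theorem card_cj_eq {A B N : Subgroup G} {k : G} (hk : k ∈ N) (e : cj k A = B) :
    Nat.card {g : G // g ∈ N ∧ cj g A = B} = Nat.card (N ⊓ normalizer (B : Set G) : Subgroup G) :=
  Nat.card_congr ((Equiv.mulRight k⁻¹).subtypeEquiv fun g => by
    rw [Equiv.coe_mulRight, Subgroup.mem_inf, mul_mem_cancel_right (inv_mem hk), mem_normalizer_iff_cj, cj_mul, ← e,
      cj_inv_cj])

theorem card_sn {H : Subgroup G} (hH : IsPGroup p H) {N P : Subgroup G} (hP : IsSylowIn p P N) (hN : H ≤ N) :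
    Nat.card {g : G // g ∈ N ∧ Sn p H g} = Nat.card {g : G // g ∈ N ∧ H ≤ cj g P} := by
  classical
  induction H using WellFoundedGT.induction generalizing N P with
  | ind H ih =>
  by_cases hS : IsSylowIn p H N
  · obtain ⟨k, hk, e⟩ := hP.exists_cj_eq hS
    rw [Nat.card_congr (Equiv.subtypeEquivRight (q := fun g => g ∈ N ∧ cj g P = H) fun g => and_congr_right fun hg =>
      ⟨fun h => hS.eq_of_le (isPGroup_cj g hP.pgroup) h (hP.cj_of_mem hg).le, Eq.ge⟩), card_cj_eq hk e]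
    refine Nat.card_congr (Equiv.subtypeEquivRight fun g => and_congr_right fun hg =>
      ⟨fun ⟨Q, h1, h2, h3⟩ => ?_, fun h => ⟨H, hH, le_rfl, h⟩⟩)
    rw [← hS.eq_of_le (Q := Q ⊓ N) h1.to_inf_left (le_inf h2 hN) inf_le_right]
    exact inf_normalizer_le_normalizer_inf ⟨h3, le_normalizer hg⟩
  have := Fintype.ofFinite G
  have := Fintype.ofFinite (Subgroup G)
  obtain ⟨μ, m1, m2⟩ := exists_mu H
  set N' := N ⊓ normalizer (H : Set G)
  let O : Subgroup G → Prop := fun x => H ≤ x ∧ x ≤ N' ∧ IsPGroup p x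
  have sw : ∀ (K : Subgroup G) (R : Subgroup G → G → Prop), ∑ x with O x, μ x * Nat.card {g : G // g ∈ K ∧ R x g} =
      ∑ g with g ∈ K, ∑ x with O x ∧ R x g, μ x := fun K R => by
    rw [sum_comm' (t' := {x | O x}) (s' := fun x => {g | g ∈ K ∧ R x g}) (by simp; tauto)]
    exact sum_congr rfl fun x _ => by simp [Nat.card_eq_fintype_card, Fintype.card_subtype, mul_comm]
  have key : ∀ K P, IsSylowIn p P K → N' ≤ K → K ≤ N → (Nat.card {g : G // g ∈ K ∧ Sn p H g} : ℤ) -
      Nat.card {g : G // g ∈ K ∧ H ≤ cj g P} = ∑ g with g ∈ N', ∑ x with O x ∧ Sn p x g, μ x := fun K P h1 h2 h3 => by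
    have a1 : ∑ g with g ∈ K, ∑ x with O x ∧ x ≤ cj g P, μ x = 0 := sum_eq_zero fun g hg => by
      have hg := h1.cj_of_mem (mem_filter.1 hg).2
      by_cases e : H ≤ cj g P
      · refine weisner m2 _ (fun x hx => hx.1.1) (fun x y hx a b =>
          ⟨⟨a, b.trans hx.1.2.1, hx.1.2.2.to_le b⟩, b.trans hx.2⟩) (lt_inf_normalizer_of_lt hg.pgroup
            (e.lt_of_ne fun e => hS (isSylowIn_of_isSylowIn_normalizer hN
              ((e ▸ hg).of_le (le_inf hN le_normalizer) h2)))) fun x hx => ?_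
        have : x ⊔ cj g P ⊓ normalizer H ≤ cj g P := sup_le hx.2 inf_le_left
        exact ⟨⟨hx.1.1.trans le_sup_left, sup_le hx.1.2.1 (inf_le_inf_right _ (hg.le.trans h3)),
          hg.pgroup.to_le this⟩, this⟩
      · exact sum_eq_zero fun x hx => absurd ((mem_filter.1 hx).2.1.1.trans (mem_filter.1 hx).2.2) e
    have a2 : ∑ g with g ∈ N', ∑ x with O x ∧ Sn p x g, μ x = ∑ g with g ∈ K, ∑ x with O x ∧ Sn p x g, μ x :=
      sum_subset (fun g hg => by simpa using h2 (by simpa using hg)) fun g g1 g2 => by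
        have g1 := h3 (mem_filter.1 g1).2
        by_cases e : Sn p H g
        swap
        · refine sum_eq_zero fun x hx => ?_
          obtain ⟨-, a, Q, b, c, d⟩ := mem_filter.1 hx
          exact absurd ⟨Q, b, a.1.trans c, d⟩ e
        obtain ⟨Q, q1, q2, q3⟩ := e
        set T := ⨅ X : {X : Subgroup G // H ≤ X ∧ g ∈ normalizer (X : Set G)}, X.1
        have t1 : ∀ X, H ≤ X → g ∈ normalizer (X : Set G) → T ≤ X := fun X a b => iInf_le_of_le ⟨X, a, b⟩ le_rfl
        refine weisner m2 _ (fun x hx => hx.1.1) (fun x y ⟨a, Q, b, c, d⟩ e f =>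
          ⟨⟨e, f.trans a.2.1, a.2.2.to_le f⟩, Q, b, f.trans c, d⟩) (lt_inf_normalizer_of_lt (q1.to_le (t1 Q q2 q3))
            ((le_iInf fun X => X.2.1).lt_of_ne fun e => g2 ?_)) fun x ⟨a, Q, b, c, d⟩ => ?_
        · simpa using ⟨g1, e ▸ iInf_normalizer_le_normalizer_iInf _ (mem_iInf.2 fun X => X.2.2)⟩
        have : x ⊔ T ⊓ normalizer H ≤ Q := sup_le c (inf_le_left.trans (t1 Q (a.1.trans c) d))
        exact ⟨⟨a.1.trans le_sup_left, sup_le a.2.1 (inf_le_inf_right _ (t1 N hN (le_normalizer g1))),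
          b.to_le this⟩, Q, b, this, d⟩
    rw [a2, ← sub_zero (∑ g with g ∈ K, _), ← a1, ← sw K (Sn p), ← sw K fun x g => x ≤ cj g P, ← sum_sub_distrib,
      sum_eq_single_of_mem H (by simpa [O] using ⟨le_inf hN le_normalizer, hH⟩) fun x h4 h5 => ?_, m1, one_mul, one_mul]
    have h6 := (mem_filter.1 h4).2
    rw [ih x (h6.1.lt_of_ne' h5) h6.2.2 h1 (h6.2.1.trans h2), sub_self]
  obtain ⟨P', h1⟩ := exists_isSylowIn p N'
  have h2 := (key N P hP inf_le_left le_rfl).trans (key N' P' h1 le_rfl inf_le_left).symm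
  rw [Nat.card_congr (Equiv.subtypeEquivRight (p := fun g => g ∈ N' ∧ Sn p H g) fun g => and_congr_right fun hg =>
    iff_of_true ⟨H, hH, le_rfl, hg.2⟩ ((h1.cj_of_mem hg).le_of_le_normalizer hH (le_inf hN le_normalizer)
      inf_le_right)), sub_self, sub_eq_zero] at h2
  exact_mod_cast h2

/-- Casolo's theorem -/
theorem card_subnormalizer {H : Subgroup G} (hH : IsPGroup p H) (P : Sylow p G) :
    Nat.card {g : G // (H.subgroupOf (H ⊔ zpowers g)).IsSubnormal} = Nat.card {g : G // H ≤ cj g P} := by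
  simpa [sn_iff hH] using card_sn hH (IsSylowIn.of_sylow_top P) le_top

theorem card_eq_mul' {X Y : Type*} [Finite X] [Finite Y] {P : X → Prop} {R : Y → Prop} (f : X → Y)
    (h1 : ∀ x, P x → R (f x)) {c : ℕ} (h : ∀ y, R y → Nat.card {x // P x ∧ f x = y} = c) :
    Nat.card {x // P x} = Nat.card {y // R y} * c := by
  classical
  have := Fintype.ofFinite X
  have := Fintype.ofFinite Y
  simp only [Nat.card_eq_fintype_card, Fintype.card_subtype] at h ⊢
  rw [card_eq_sum_card_fiberwise (f := f) (t := {y | R y}) (fun x hx => by simpa using h1 x (by simpa using hx)),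
    ← smul_eq_mul, ← sum_const]
  exact sum_congr rfl fun y hy => (congrArg _ (Finset.ext fun x => by simp)).trans (h y (mem_filter.1 hy).2)

theorem card_eq_mul {X Y : Type*} [Finite X] [Finite Y] {P : X → Prop} {R : Y → Prop} (f : X → Y)
    (h1 : ∀ x, P x ↔ R (f x)) {c : ℕ} (h : ∀ y, R y → Nat.card {x // f x = y} = c) :
    Nat.card {x // P x} = Nat.card {y // R y} * c :=
  card_eq_mul' f (fun x => (h1 x).1) fun y hy => (Nat.card_congr (Equiv.subtypeEquivRight fun x =>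
    and_iff_right_of_imp fun e : f x = y => (h1 x).2 (e ▸ hy))).trans (h y hy)

theorem card_le_cj (H : Subgroup G) (P : Sylow p G) : Nat.card {g : G // H ≤ cj g P} =
    Nat.card {Q : Sylow p G // H ≤ Q} * Nat.card (normalizer ((P : Subgroup G) : Set G)) := by
  refine card_eq_mul (P := fun g : G => H ≤ cj g P) (R := fun Q : Sylow p G => H ≤ Q) (fun g : G => g • P)
    (fun _ => Iff.rfl) fun Q _ => ?_
  obtain ⟨k, rfl⟩ := MulAction.exists_smul_eq G P Q
  have := card_cj_eq (A := P) (mem_top k) rfl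
  rw [top_inf_eq, ← cj_normalizer, card_cj] at this
  rw [← this]
  exact Nat.card_congr (Equiv.subtypeEquivRight fun g => by simp [Sylow.ext_iff, coe_smul_sylow])

end CfsgLib.GT
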