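import Mathlib
import Cfsg.Agent.Lib.GT.Casolo

/-! Counting Sylow subgroups over a `p`-subgroup in a `p`-solvable group. -/

set_option autoImplicit false

namespace CfsgLib.GT

open Subgroup CfsgLib.Tech Finset

variable {G : Type*} [Group G] [Finite G] {p : ℕ} [hp : Fact p.Prime]

theorem sup_inf_eq_of_coprime {A B T : Subgroup G} [A.Normal] (hAB : A ≤ B) (hc : (A.relIndex B).Coprime p)
    (hT : IsPGroup p T) : (T ⊔ A) ⊓ B = A := by
  have h1 : A ≤ (T ⊔ A) ⊓ B := le_inf le_sup_right hAB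
  obtain ⟨k, hk⟩ := hT.exists_card_eq
  refine le_antisymm (relIndex_eq_one.1 (Nat.eq_one_of_dvd_coprimes (hc.pow_right k)
    (Dvd.intro _ (relIndex_mul_relIndex _ _ _ h1 inf_le_right)) ?_)) h1
  rw [← hk]
  exact (Dvd.intro _ ((relIndex_mul_relIndex _ _ _ h1 inf_le_left).trans (relIndex_sup_right T A))).trans
    (relIndex_dvd_card _ _)

theorem sup_eq_of_pow {A B : Subgroup G} [B.Normal] (hAB : A ≤ B) {m : ℕ} (hc : A.relIndex B = p ^ m)
    (Q : Sylow p G) : (Q : Subgroup G) ⊔ A = (Q : Subgroup G) ⊔ B := by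
  refine le_antisymm (sup_le_sup_left hAB _) (sup_le le_sup_left (relIndex_eq_one.1 (Nat.eq_one_of_dvd_coprimes
    (((hp.out.coprime_iff_not_dvd.2 (sylow_inf_normal Q B).not_dvd)).pow_left m)
    (hc ▸ relIndex_dvd_of_le_left _ le_sup_right) (relIndex_dvd_of_le_left _ (inf_le_left.trans le_sup_left)))))

theorem card_step {A B : Subgroup G} [A.Normal] [B.Normal] (hAB : A ≤ B) (hc : (A.relIndex B).Coprime p)
    {H : Subgroup G} (hH : IsPGroup p H) (P : Sylow p G) :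
    Nat.card {g : G // H ≤ cj g P ⊔ A} * Nat.card B = Nat.card {g : G // H ≤ cj g P ⊔ B} *
      Nat.card {u : G // u ∈ B ∧ ∀ h ∈ H, h * u * h⁻¹ * u⁻¹ ∈ A} := by
  have hB : ∀ (g : G), ∀ m ∈ B, cj (m * g) P ⊔ B = cj g P ⊔ B := fun g m hm => by
    rw [cj_mul, ← cj_eq_of_mem (mem_sup_right hm : m ∈ cj g P ⊔ B), cj_sup, cj_eq_of_normal m B]
  rw [← card_eq_mul' (P := fun x : G × G => x.2 ∈ B ∧ H ≤ cj (x.2 * x.1) P ⊔ A) (fun x => x.2 * x.1)
    (fun _ => And.right) (c := Nat.card B) fun g hg => Nat.card_congr ⟨fun x => ⟨x.1.2, x.2.1.1⟩,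
      fun m => ⟨(m.1⁻¹ * g, m), by simpa using hg⟩, fun x => by ext <;> simp [← x.2.2], fun _ => rfl⟩]
  refine card_eq_mul' Prod.fst (fun x hx => hB _ _ hx.1 ▸ hx.2.trans (sup_le_sup_left hAB _)) fun g hg => ?_
  obtain ⟨k, hk, h1⟩ := ((IsSylowIn.of_sylow_top (g • P)).of_le (le_sup_left (b := B)) le_top).exists_cj_le hH hg
  obtain ⟨q, hq, b, hb, rfl⟩ := mem_sup_of_normal_right.1 hk
  rw [cj_mul, ← cj_eq_of_mem hq, cj_le_cj_iff, cj_le_iff] at h1
  have key : ∀ m ∈ B, H ≤ cj (m * g) P ⊔ A ↔ ∀ h ∈ H, h * (m * b) * h⁻¹ * (m * b)⁻¹ ∈ A := fun m hm => by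
    rw [cj_mul, show cj m (cj g P) ⊔ A = cj m (cj g P ⊔ A) by rw [cj_sup, cj_eq_of_normal m A], le_cj_iff]
    refine forall₂_congr fun h hh => ?_
    rw [← mul_mem_cancel_right (inv_mem (mem_sup_left (h1 h hh) : _ ∈ cj g P ⊔ A)),
      ← and_iff_left (a := _ ∈ _) (show m⁻¹ * h * m * (b * h * b⁻¹)⁻¹ ∈ B by
        simpa [mul_assoc] using mul_mem (mul_mem (inv_mem hm) (‹B.Normal›.conj_mem _ (mul_mem hm hb) h)) (inv_mem hb)),
      ← Subgroup.mem_inf, sup_inf_eq_of_coprime hAB hc (isPGroup_cj g P.isPGroup'), mul_assoc, mul_assoc,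
      ‹A.Normal›.mem_comm_iff]
    simp [mul_assoc]
  refine Nat.card_congr ⟨fun x => ⟨x.1.2 * b, mul_mem x.2.1.1 hb, (key _ x.2.1.1).1 (by simpa [x.2.2] using x.2.1.2)⟩,
    fun u => ⟨(g, u.1 * b⁻¹), ⟨mul_mem u.2.1 (inv_mem hb), (key _ (mul_mem u.2.1 (inv_mem hb))).2 (by
      simpa using u.2.2)⟩, rfl⟩, fun x => by ext <;> simp [← x.2.2], fun _ => by simp⟩

omit [Finite G] in
theorem card_cz (A B H : Subgroup G) [A.Normal] (hAB : A ≤ B) :
    Nat.card {u : G // u ∈ B ∧ ∀ h ∈ H, h * u * h⁻¹ * u⁻¹ ∈ A} = Nat.card A * Nat.card (B.map (QuotientGroup.mk' A) ⊓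
      centralizer (H.map (QuotientGroup.mk' A) : Set (G ⧸ A)) : Subgroup (G ⧸ A)) := by
  refine Eq.trans (Nat.card_congr (Equiv.subtypeEquivRight fun u => ?_)) (QuotientGroup.card_preimage_mk A _)
  have := SetLike.ext_iff.1 (comap_map_eq_self (f := QuotientGroup.mk' A) (H := B) (by simpa)) u
  simp only [Set.mem_preimage, SetLike.mem_coe, Subgroup.mem_inf, mem_centralizer_iff]
  refine and_congr this.symm ?_
  simp only [← QuotientGroup.eq_one_iff, Subgroup.mem_map]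
  simp [mul_inv_eq_iff_eq_mul]

theorem telescope {n : ℕ} (f : Fin (n + 1) → ℚ) (e : Fin n → ℚ) (h : ∀ i, f i.castSucc = f i.succ * e i) :
    f 0 = f (Fin.last n) * ∏ i, e i := by
  induction n with
  | zero => simp
  | succ n ih => rw [Fin.prod_univ_succ, ← Fin.castSucc_zero, h, ← Fin.succ_last,
      ih (fun i => f i.succ) (fun i => e i.succ) fun i => h i.succ, mul_assoc, mul_comm (e 0)]

theorem card_le_cj_chain {H : Subgroup G} (hH : IsPGroup p H) (P : Sylow p G) {n : ℕ} {M : Fin (n + 1) → Subgroup G}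
    (h0 : M 0 = ⊥) (hn : M (Fin.last n) = ⊤) (hmono : Monotone M) (hnormal : ∀ i, (M i).Normal)
    (hfac : ∀ i : Fin n, (∃ m : ℕ, (M i.castSucc).relIndex (M i.succ) = p ^ m) ∨
      ((M i.castSucc).relIndex (M i.succ)).Coprime p) :
    Nat.card {g : G // H ≤ cj g P} = Nat.card (P : Subgroup G) *
      ∏ i : Fin n, (if ((M i.castSucc).relIndex (M i.succ)).Coprime p then
        Nat.card {u : G // u ∈ M i.succ ∧ ∀ h ∈ H, h * u * h⁻¹ * u⁻¹ ∈ M i.castSucc} / Nat.card (M i.castSucc)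
        else 1) := by
  have pos : ∀ K : Subgroup G, (Nat.card K : ℚ) ≠ 0 := fun K => by exact_mod_cast Nat.card_pos.ne'
  have := telescope (fun i => (Nat.card {g : G // H ≤ cj g P ⊔ M i} : ℚ) / Nat.card (P ⊔ M i : Subgroup G))
    (fun i => ((if ((M i.castSucc).relIndex (M i.succ)).Coprime p then
        Nat.card {u : G // u ∈ M i.succ ∧ ∀ h ∈ H, h * u * h⁻¹ * u⁻¹ ∈ M i.castSucc} / Nat.card (M i.castSucc)
        else 1 : ℕ) : ℚ)) fun i => by
    have hAB := hmono i.castSucc_le_succ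
    split_ifs with hc
    · have h1 := card_step hAB hc hH P
      rw [card_cz _ _ _ hAB] at h1 ⊢
      rw [Nat.mul_div_cancel_left _ Nat.card_pos]
      have h2 : (M i.castSucc).relIndex P = (M i.succ).relIndex P := by
        rw [← inf_relIndex_left P (M i.succ), ← sup_inf_eq_of_coprime hAB hc P.isPGroup', ← inf_relIndex_left,
          ← inf_assoc, inf_sup_self]
      rw [← card_mul_relIndex' (le_sup_right : M i.castSucc ≤ _), ← card_mul_relIndex' (le_sup_right : M i.succ ≤ _),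
        relIndex_sup_right, relIndex_sup_right, h2]
      have h3 := pos (M i.succ)
      have h4 := pos (M i.castSucc)
      have h5 : ((M i.succ).relIndex P : ℚ) ≠ 0 := by exact_mod_cast index_ne_zero_of_finite
      push_cast
      field_simp
      exact_mod_cast h1.trans (by ring)
    · obtain ⟨m, hm⟩ := (hfac i).resolve_right hc
      simp only [← coe_smul_sylow, sup_eq_of_pow hAB hm, Nat.cast_one, mul_one]
  simp only [h0, hn, sup_bot_eq, sup_top_eq, le_top, Nat.card_subtype_true, card_top] at this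
  rw [div_self (by exact_mod_cast Nat.card_pos.ne'), one_mul, div_eq_iff (pos _), mul_comm] at this
  exact_mod_cast this

end CfsgLib.GT
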