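import Mathlib
import Cfsg.Agent.Lib.LAE.SubnormalJoin
import Cfsg.Agent.Lib.Frob.Zipper
import Cfsg.Agent.Lib.Tech.SylowIn

/-! A generalisation of Wielandt's zipper lemma (Guralnick and Tracey). -/

set_option autoImplicit false

namespace CfsgLib.GT

open Subgroup CfsgLib.Tech CfsgLib.LAE
open scoped Pointwise

variable {G : Type*} [Group G]

/-- `H` is generated by its conjugates of `A`. -/
def Full (A H : Subgroup G) : Prop := A ≤ H ∧ ∀ N, A ≤ N → N < H → ¬ H ≤ normalizer (N : Set G)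

theorem Full.eq {A K H : Subgroup G} (h : Full A H) (hK : SubnormalIn K H) (hA : A ≤ K) : K = H := by
  by_contra e
  obtain ⟨N, h1, h2, h3⟩ := hK.exists_normal_lt e
  exact h.2 N (hA.trans h1) h2 h3

theorem Full.trans {A K H : Subgroup G} (h : Full A K) (h' : Full K H) : Full A H :=
  ⟨h.1.trans h'.1, fun N h1 h2 h3 => h'.2 N (inf_eq_right.1 (h.eq (by
    simpa [inf_eq_right.2 h'.1] using (SubnormalIn.of_normal h2.le h3).inf_right K) (le_inf h1 h.1))) h2 h3⟩

theorem Full.mono {A K H : Subgroup G} (h : Full A H) (h1 : A ≤ K) (h2 : K ≤ H) : Full K H :=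
  ⟨h2, fun N h3 => h.2 N (h1.trans h3)⟩

theorem Full.cj {A H : Subgroup G} (h : Full A H) (g : G) : Full (cj g A) (cj g H) :=
  ⟨cj_mono g h.1, fun N h1 h2 h3 => by
    obtain ⟨N, rfl⟩ : ∃ K, Tech.cj g K = N := ⟨_, cj_cj_inv g N⟩
    rw [← cj_normalizer, cj_le_cj_iff] at h3
    exact h.2 N ((cj_le_cj_iff g).1 h1) (lt_of_le_not_ge ((cj_le_cj_iff g).1 h2.le)
      fun e => h2.not_ge (cj_mono g e)) h3⟩

theorem exists_full [Finite G] {A H : Subgroup G} (h : A ≤ H) : ∃ W, Full A W ∧ SubnormalIn W H := by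
  induction H using WellFoundedLT.induction with
  | ind H ih =>
    by_cases e : Full A H
    · exact ⟨H, e, .refl H⟩
    simp only [Full, h, true_and, not_forall, not_not] at e
    obtain ⟨N, h1, h2, h3⟩ := e
    obtain ⟨W, h4, h5⟩ := ih N h2 h1
    exact ⟨W, h4, h5.trans (.of_normal h2.le h3)⟩

theorem full_iff {A H : Subgroup G} (h : A ≤ H) :
    Full A H ↔ normalClosure ((A.subgroupOf H : Subgroup H) : Set H) = ⊤ := by
  refine ⟨fun e => ?_, fun e => ⟨h, fun N h1 h2 h3 => h2.not_ge fun x hx => ?_⟩⟩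
  · have := e.eq (subnormalIn_map_subtype (normalClosure_normal (s := (A.subgroupOf H : Set H))).isSubnormal)
      fun x hx => ⟨⟨x, h hx⟩, subset_normalClosure hx, rfl⟩
    exact map_injective H.subtype_injective (by rw [this, ← MonoidHom.range_eq_map, range_subtype])
  · have := normal_subgroupOf_of_le_normalizer h3
    exact (normalClosure_le_normal (N := N.subgroupOf H) fun y hy => h1 hy) (e ▸ mem_top (⟨x, hx⟩ : H))

theorem isCoatom_cj {M : Subgroup G} (h : IsCoatom M) (g : G) : IsCoatom (cj g M) :=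
  (OrderIso.isCoatom_iff (MulEquiv.mapSubgroup (MulAut.conj g)) M).2 h

/-- the hypothesis of the lemma -/
structure Zip (A M : Subgroup G) : Prop where
  full : Full A ⊤
  max : IsCoatom M
  le : A ≤ M
  all : ∀ H, H ≠ ⊤ → Full A H → H ≤ M

theorem Zip.cj {A M : Subgroup G} (h : Zip A M) (g : G) : Zip (cj g A) (cj g M) :=
  ⟨cj_top g ▸ h.full.cj g, isCoatom_cj h.max g, cj_mono g h.le, fun H h1 h2 => by
    obtain ⟨H, rfl⟩ : ∃ K, Tech.cj g K = H := ⟨_, cj_cj_inv g H⟩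
    refine cj_mono g (h.all H (fun e => h1 (by rw [e, cj_top])) ?_)
    simpa only [cj_inv_cj] using h2.cj g⁻¹⟩

theorem Zip.unique [Finite G] {A M : Subgroup G} (h : Zip A M) {L : Subgroup G} (hL : IsCoatom L) (hA : A ≤ L) :
    L = M := by
  induction e : A.index using Nat.strong_induction_on generalizing A M L with
  | _ n ih =>
  subst e
  let T : Subgroup G → Subgroup G → Prop := fun B N => ∃ g, Tech.cj g A = B ∧ Tech.cj g M = N
  have z : ∀ {B N}, T B N → Zip B N := by rintro _ _ ⟨g, rfl, rfl⟩; exact h.cj g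
  have tc : ∀ {B N} (g : G), T B N → T (Tech.cj g B) (Tech.cj g N) := by
    rintro _ _ g ⟨k, rfl, rfl⟩; exact ⟨g * k, cj_mul g k A, cj_mul g k M⟩
  have ci : ∀ {B N}, T B N → B.index = A.index := by
    rintro _ _ ⟨g, rfl, rfl⟩; exact index_map_of_bijective (MulAut.conj g).bijective A
  have ih' : ∀ {B N J K L}, T B N → B ≤ J → B ≠ J → Zip J K → IsCoatom L → J ≤ L → L = K :=
    fun t h1 h2 h3 h4 h5 => ih _ ((index_strictAnti (h1.lt_of_ne h2)).trans_eq (ci t)) h3 h4 h5 rfl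
  have hb : ∀ {B N L}, T B N → IsCoatom L → B ≤ L → L ≠ N → SubnormalIn B L := fun t h1 h2 h3 => by
    obtain ⟨W, h4, h5⟩ := exists_full h2
    by_contra e
    have hW : W ≠ ⊤ := fun e => h1.1 (top_le_iff.1 (e ▸ h5.le))
    exact h3 (ih' t h4.1 (fun e1 => e (e1 ▸ h5)) ⟨(z t).full.mono h4.1 le_top, (z t).max, (z t).all _ hW h4,
      fun H h6 h7 => (z t).all H h6 (h4.trans h7)⟩ h1 h5.le)
  by_cases h0 : ∀ W, W ≠ ⊤ → Full A W → W = A
  · obtain ⟨M', e, h1⟩ := Frob.zipper (A := A) (fun H h1 h2 => by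
      obtain ⟨W, h4, h5⟩ := exists_full h1
      exact (h0 W (fun e => h2 (top_le_iff.1 (e ▸ h5.le))) h4 ▸ h5).isSubnormal)
      fun e => hL.1 (top_le_iff.1 ((h.full.eq (subnormalIn_top_iff.2 e) le_rfl).ge.trans hA))
    rw [(hL.le_iff_eq e.1).1 (h1 L hA hL.1) |>.symm, (h.max.le_iff_eq e.1).1 (h1 M h.le h.max.1)]
  push Not at h0
  obtain ⟨W, w1, w2, w3⟩ := h0
  have hc : ∀ {B N}, T B N → ¬ SubnormalIn B N := by
    rintro _ _ ⟨g, rfl, rfl⟩ e
    exact w3 (cj_injective g ((w2.cj g).eq (e.mono (cj_mono g w2.1) (cj_mono g (h.all W w1 w2))) le_rfl)).symm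
  have hn : ∀ {B N}, T B N → normalizer (B : Set G) ≤ N := fun {B N} t g hg => by
    have t' := tc g t
    rw [mem_normalizer_iff_cj.1 hg] at t'
    have e : g ∈ normalizer (N : Set G) := mem_normalizer_iff_cj.2
      (by_contra fun e => hc t' (hb t (z t').max (z t').le e))
    rcases (z t).max.le_iff.1 (le_normalizer : N ≤ _) with e1 | e1
    · exact absurd e1.ge ((z t).full.2 N (z t).le (z t).max.1.lt_top)
    · exact e1 ▸ e
  have he : ∀ {B N B' N' L L'}, T B N → T B' N' → B ≠ B' → IsCoatom L → IsCoatom L' → L ≠ L' → B ≤ L → B ≤ L' →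
      B' ≤ L → B' ≤ L' → B ≤ N' ∧ N ≠ N' := fun {B N B' N' L L'} t t' h1 h2 h3 h4 a1 a2 a3 a4 => by
    have key : ∀ K, IsCoatom K → B ⊔ B' ≤ K → ∃ K', B ⊔ B' ≤ K' ∧ K' ≠ K ∧ (K' = N ∨ K' = N') := fun K k1 k2 => by
      by_contra! k3
      have : Zip (B ⊔ B') K := ⟨(z t).full.mono le_sup_left le_top, k1, k2, fun H h5 h6 => by
        obtain ⟨K', h7, h8⟩ := (eq_top_or_exists_le_coatom H).resolve_left h5
        by_cases e : K' = K
        · exact e ▸ h8
        have h9 := h6.1.trans h8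
        rw [← h6.eq (((hb t h7 (le_sup_left.trans h9) (k3 K' h9 e).1).sup
          (hb t' h7 (le_sup_right.trans h9) (k3 K' h9 e).2)).mono h6.1 h8) le_rfl]
        exact k2⟩
      have hne : B ≠ B ⊔ B' := fun e => (index_strictAnti ((sup_eq_left.1 e.symm).lt_of_ne h1.symm)).ne
        ((ci t).trans (ci t').symm)
      exact h4 ((ih' t le_sup_left hne this h2 (sup_le a1 a3)).trans
        (ih' t le_sup_left hne this h3 (sup_le a2 a4)).symm)
    obtain ⟨K, k1, -, rfl | rfl⟩ := key L h2 (sup_le a1 a3)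
    · obtain ⟨K', k2, k3, rfl | rfl⟩ := key K (z t).max k1
      exacts [absurd rfl k3, ⟨le_sup_left.trans k2, k3.symm⟩]
    · obtain ⟨K', k2, k3, rfl | rfl⟩ := key K (z t').max k1
      exacts [⟨le_sup_left.trans k1, k3⟩, absurd rfl k3]
  have hg : ∀ {B N B' N' L}, T B N → T B' N' → B ≤ N' → B' ≤ N → N ≠ N' → IsCoatom L →
      normalizer ((sSup {X | (∃ K, T X K) ∧ X ≤ N ⊓ N'} : Subgroup G) : Set G) ≤ L → L = N :=
    fun {B N B' N' L} t t' a1 a2 a3 l1 l2 => by
    have m := (z t).max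
    have m' := (z t').max
    have ne : B' ≠ B := fun e => hc t' (hb t m' a1 a3.symm |> (e ▸ ·))
    set C := {X | (∃ K, T X K) ∧ X ≤ N ⊓ N'} with hC
    have s1 : ∀ X ∈ C \ {B}, SubnormalIn X N := by
      rintro X ⟨⟨⟨K, k⟩, k1⟩, k2⟩
      exact hb k m (k1.trans inf_le_left)
        (he t k (Ne.symm k2) m m' a3 (z t).le a1 (k1.trans inf_le_left) (k1.trans inf_le_right)).2
    have r1 : sSup (C \ {B}) ≤ N ⊓ N' := sSup_le fun X hX => hX.1.2
    have r2 : ¬ B ≤ sSup (C \ {B}) := fun e => hc t (((hb t m' a1 a3.symm).mono e (r1.trans inf_le_right)).trans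
      (subnormalIn_iff.2 ⟨r1.trans inf_le_left,
        SolvStruct.isSubnormal_subgroupOf_sSup fun X hX => subnormalIn_iff.1 (s1 X hX)⟩))
    have b' : B' ∈ C \ {B} := ⟨⟨⟨_, t'⟩, le_inf a2 (z t').le⟩, ne⟩
    have r3 : N ⊓ normalizer ((sSup (C \ {B}) : Subgroup G) : Set G) ≤ normalizer (B : Set G) := fun x hx => by
      have h1 : Tech.cj x B' ≤ sSup (C \ {B}) := mem_normalizer_iff_cj.1 hx.2 ▸ cj_mono x (le_sSup b')
      have h2 := cj_mono x⁻¹ (he t (tc x t') (fun e => r2 (e ▸ h1)) m m' a3 (z t).le a1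
        (h1.trans (r1.trans inf_le_left)) (h1.trans (r1.trans inf_le_right))).1
      have t2 := tc x⁻¹ t
      rw [cj_eq_of_mem (inv_mem hx.1)] at t2
      rw [cj_inv_cj] at h2
      rw [← inv_mem_iff, mem_normalizer_iff_cj]
      by_contra e
      exact (he t2 t e m m' a3 (z t2).le h2 (z t).le a1).2 rfl
    have s2 : ∀ X ∈ {X | (∃ K, T X K) ∧ SubnormalIn X N}, ∀ g ∈ N,
        MulAut.conj g • X ∈ {X | (∃ K, T X K) ∧ SubnormalIn X N} := fun X ⟨⟨K, k⟩, x1⟩ g hg => ⟨⟨_, tc g k⟩, by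
      have := x1.map (MulAut.conj g).toMonoidHom
      rwa [show N.map _ = N from cj_eq_of_mem hg] at this⟩
    obtain ⟨X, ⟨⟨K, k⟩, x1⟩, x2, x3⟩ := SolvStruct.exists_notMem_le_normalizer_sSup N
      _ (C \ {B}) (fun X hX => subnormalIn_iff.1 hX.2) s2
      (ssubset_of_subset_of_ne (fun X hX => ⟨hX.1.1, s1 X hX⟩) fun e => hc t (.of_normal (z t).le
        (le_trans (le_inf le_rfl (SolvStruct.le_normalizer_sSup (e ▸ s2))) r3)))
    · by_contra e
      have c1 : sSup C = B ⊔ sSup (C \ {B}) := by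
        rw [← sSup_insert, Set.insert_sdiff_singleton, Set.insert_eq_of_mem]
        exact ⟨⟨_, t⟩, le_inf (z t).le a1⟩
      have x4 : X ≤ L := le_trans (c1 ▸ SolvStruct.le_normalizer_sup ((le_inf x1.le x3).trans r3) x3) l2
      refine x2 ⟨⟨⟨_, k⟩, le_inf x1.le (he k t' (fun e => x2 (e ▸ b')) l1 m e x4 x1.le
        ((le_sSup b'.1).trans (le_normalizer.trans l2)) a2).1⟩, fun e => hc t (e ▸ x1)⟩
  by_contra e
  have t : T A M := ⟨1, cj_one A, cj_one M⟩
  obtain ⟨g, g1, g2, g3⟩ := SolvStruct.exists_conj_le_normalizer_of_isSubnormal_subgroupOf hA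
    (hb t hL hA e).isSubnormal fun e1 => e ((hL.le_iff_eq h.max.1).1 (e1.trans (hn t))).symm
  have t' := tc g t
  have a1 : Tech.cj g A ≤ M := g3.trans (hn t)
  obtain ⟨a2, a3⟩ := he t t' (fun e => g2 e.ge) hL h.max e hA h.le (cj_eq_of_mem g1 ▸ cj_mono g hA) a1
  obtain ⟨K, k1, k2⟩ := (eq_top_or_exists_le_coatom (normalizer
      ((sSup {X | (∃ K, T X K) ∧ X ≤ M ⊓ Tech.cj g M} : Subgroup G) : Set G))).resolve_left fun e =>
    h.full.2 _ (le_sSup (by exact ⟨⟨_, t⟩, le_inf h.le a2⟩))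
      (((sSup_le fun X hX => hX.2).trans inf_le_left).trans_lt h.max.1.lt_top) e.ge
  exact a3 ((hg t t' a2 a1 a3 k1 k2).symm.trans (hg t' t a1 a2 a3.symm k1 (by rwa [inf_comm])))

end CfsgLib.GT
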