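import Mathlib
import Cfsg.Agent.Lib.GT.Zip

/-! Iterated commutators with a fixed element. -/

set_option autoImplicit false

namespace CfsgLib.GT

open Subgroup CfsgLib.Tech CfsgLib.LAE

universe u

/-- the map `x ↦ [x, a]` -/
def br {G : Type*} [Group G] (a x : G) : G := x * a * x⁻¹ * a⁻¹

theorem map_br {G H : Type*} [Group G] [Group H] (f : G →* H) (a x : G) (k : ℕ) :
    f ((br a)^[k] x) = (br (f a))^[k] (f x) :=
  (Function.Semiconj.iterate_right (fun x => by simp [br]) k).eq x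

theorem Full.top {G : Type*} [Group G] {a : G} {H : Subgroup G} (h : Full (zpowers a) H) :
    Full (zpowers (⟨a, h.1 (mem_zpowers a)⟩ : H)) ⊤ := ⟨le_top, fun N n1 n2 n3 => by
  have e1 : (zpowers a).subgroupOf H = zpowers ⟨a, h.1 (mem_zpowers a)⟩ :=
    map_injective H.subtype_injective (by rw [map_subgroupOf_eq_of_le h.1, MonoidHom.map_zpowers]; rfl)
  have := normalizer_eq_top_iff.1 (top_le_iff.1 n3)
  exact n2.not_ge (((full_iff h.1).1 h).ge.trans (normalClosure_le_normal (e1 ▸ n1)))⟩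

theorem Full.le_aux {G : Type*} [Group G] {a : G} {H M : Subgroup G} (h : Full (zpowers a) H) (k : ℕ)
    (e : closure (Set.range (br (⟨a, h.1 (mem_zpowers a)⟩ : H))^[k]) ⊔ zpowers ⟨a, h.1 (mem_zpowers a)⟩ = ⊤)
    (h1 : ∀ x ∈ H, (br a)^[k] x ∈ M) (h2 : a ∈ M) : H ≤ M := fun x hx => by
  refine (sup_le ((closure_le _).2 ?_) (zpowers_le.2 h2) : _ ≤ M.subgroupOf H) (e.ge (mem_top ⟨x, hx⟩))
  rintro _ ⟨y, rfl⟩
  show H.subtype _ ∈ M
  rw [map_br]
  exact h1 y y.2

theorem gen_top (k : ℕ) {G : Type u} [Group G] [Finite G] {a : G} (h : Full (zpowers a) ⊤) :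
    closure (Set.range (br a)^[k]) ⊔ zpowers a = ⊤ := by
  induction e : Nat.card G using Nat.strong_induction_on generalizing G with
  | _ n ih =>
  subst e
  by_contra e
  obtain ⟨M, h1, h2⟩ := (eq_top_or_exists_le_coatom _).resolve_left e
  have ha : a ∈ M := h2 (mem_sup_right (mem_zpowers a))
  have z : Zip (zpowers a) M := ⟨h, h1, zpowers_le.2 ha, fun H h3 h4 =>
    h4.le_aux k (ih _ (Core.card_lt_of_ne_top h3) h4.top rfl)
      (fun y _ => h2 (mem_sup_left (Subgroup.subset_closure ⟨y, rfl⟩))) ha⟩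
  have h3 : ∀ x, br a x ∈ M → x ∈ M := fun x hx => by
    have h4 := z.unique (isCoatom_cj h1 x⁻¹) (zpowers_le.2 (mem_cj.2 (by
      simpa [br] using mul_mem hx ha)))
    rcases h1.le_iff.1 (le_normalizer : M ≤ _) with e1 | e1
    · exact h.2 M z.le h1.1.lt_top e1.ge |>.elim
    · exact inv_mem_iff.1 (e1 ▸ mem_normalizer_iff_cj.2 h4)
  refine h1.1 (eq_top_iff.2 fun x _ => ?_)
  have h4 : (br a)^[k] x ∈ M := h2 (mem_sup_left (subset_closure ⟨x, rfl⟩))
  clear h2 e ih
  induction k with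
  | zero => exact h4
  | succ k ih => exact ih (h3 _ (Function.iterate_succ_apply' (br a) k x ▸ h4))

theorem Full.le {G : Type*} [Group G] [Finite G] {a : G} {H M : Subgroup G} (h : Full (zpowers a) H) (k : ℕ)
    (h1 : ∀ x ∈ H, (br a)^[k] x ∈ M) (h2 : a ∈ M) : H ≤ M := h.le_aux k (gen_top k h.top) h1 h2

open SemidirectProduct in
theorem gen_aut {G : Type*} [Group G] [Finite G] (α : MulAut G)
    (hG : closure (Set.range (fun c : G => c * (α c)⁻¹)) = ⊤) (k : ℕ) :
    closure (Set.range ((fun c : G => c * (α c)⁻¹)^[k])) = ⊤ := by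
  rcases k with - | k
  · simp
  have : Finite (G ⋊[(zpowers α).subtype] zpowers α) := Finite.of_equiv _ equivProd.symm
  obtain ⟨a, ha⟩ : ∃ a : G ⋊[(zpowers α).subtype] zpowers α, a = inr ⟨α, mem_zpowers α⟩ := ⟨_, rfl⟩
  have h1 : ∀ g : G, br a (inl g) = inl (g * (α g)⁻¹) := fun g => by
    ext <;> simp [br, ha]
  have h3 : ∀ b : zpowers α, inr b ∈ zpowers a := by
    rintro ⟨_, n, rfl⟩
    exact ⟨n, by simp only [ha, ← map_zpow]; rfl⟩
  have h2 : ∀ x, br a x = br a (inl x.left) := fun x => by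
    obtain ⟨n, hn⟩ := h3 x.right
    conv_lhs => rw [← x.inl_left_mul_inr_right, ← hn, br]
    simp only [br]
    group
  set E := closure (Set.range ((fun c : G => c * (α c)⁻¹)^[k + 1]))
  have h4 := gen_top (k + 1) (a := a) ⟨le_top, fun N n1 n2 n3 => n2.not_ge fun x _ => by
    have := normalizer_eq_top_iff.1 (top_le_iff.1 n3)
    rw [← x.inl_left_mul_inr_right]
    refine mul_mem (((closure_le (N.comap inl)).2 ?_) (hG.ge (mem_top _))) (n1 (h3 _))
    rintro _ ⟨g, rfl⟩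
    show inl _ ∈ N
    rw [← h1]
    exact mul_mem (this.conj_mem _ (n1 (mem_zpowers a)) _) (inv_mem (n1 (mem_zpowers a)))⟩
  have h5 : ∀ β : zpowers α, ∀ g ∈ E, β.1 g ∈ E := fun β g hg => ((closure_le (E.comap β.1.toMonoidHom)).2 (by
    rintro _ ⟨g, rfl⟩
    obtain ⟨_, n, rfl⟩ := β
    exact Subgroup.subset_closure ⟨(α ^ n) g, ((Function.Semiconj.iterate_right (f := ⇑(α ^ n)) (fun x => by
      rw [map_mul, map_inv, ← MulAut.mul_apply, ← MulAut.mul_apply, (Commute.self_zpow α n).eq]) _).eq g).symm⟩)) hg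
  let Y : Subgroup (G ⋊[(zpowers α).subtype] zpowers α) :=
    { carrier := {x | x.left ∈ E}
      one_mem' := one_mem E
      mul_mem' := fun {x y} hx hy => E.mul_mem hx (h5 _ _ hy)
      inv_mem' := fun {x} hx => h5 x.right⁻¹ _ (E.inv_mem hx) }
  have h7 : ⊤ ≤ Y := h4.ge.trans (sup_le ((closure_le _).2 (by
    rintro _ ⟨x, rfl⟩
    rw [Function.iterate_succ_apply, h2, ← Function.iterate_succ_apply,
      ← (Function.Semiconj.iterate_right (fun g => (h1 g).symm) _).eq]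
    exact Subgroup.subset_closure ⟨_, rfl⟩)) (zpowers_le.2 (ha ▸ one_mem E)))
  exact eq_top_iff.2 fun g _ => h7 (mem_top (inl g))

end CfsgLib.GT
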