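import Mathlib
import Cfsg.Agent.Lib.PF.Wielandt
import Cfsg.Agent.Lib.Coprime.Sylow
import Cfsg.Prelude.Def_Local
import Cfsg.Agent.Lib.GT.Casolo2

/-! The Navarro–Rizo fixed point formula and the number of `p`-elements of a `p`-solvable group. -/

set_option autoImplicit false

namespace CfsgLib.GT

open Subgroup CfsgLib.Tech Finset CfsgLib.PF

variable {p : ℕ} [hp : Fact p.Prime]

theorem sum_zpowers {L R : Type*} [Group L] [Fintype L] [CommRing R] (x : L) [Fintype (zpowers x)] {N : ℕ}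
    (hN : orderOf x ∣ N) (χ : L → R) : ((N / orderOf x : ℕ) : R) * ∑ a : zpowers x, χ a = ∑ k ∈ range N, χ (x ^ k) := by
  obtain ⟨c, rfl⟩ := hN
  rw [Nat.mul_div_cancel_left _ (orderOf_pos x), ← Fintype.sum_equiv (finEquivZPowers (isOfFinOrder_of_finite x))
    (fun k => χ (x ^ (k : ℕ))) _ (fun _ => rfl), Fin.sum_univ_eq_sum_range (fun k => χ (x ^ k))]
  induction c with
  | zero => simp
  | succ c ih => simp [mul_add, sum_range_add, ← ih, pow_add, pow_mul, add_mul]

theorem nr_relation {L R : Type*} [Group L] [Fintype L] [CommRing R] (hL : IsPGroup p L) (χ : L → R) (n : ℕ) :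
    ∑ x : L, ∑ k ∈ range (p * n), χ (x ^ k) =
      ∑ x : L, ∑ k ∈ range n, χ ((x ^ p) ^ k) + ((p - 1) * n : ℕ) * ∑ x, χ x := by
  induction n with
  | zero => simp
  | succ n ih =>
  obtain ⟨q, rfl⟩ : ∃ q, p = q + 1 := ⟨p - 1, (Nat.sub_add_cancel hp.out.one_le).symm⟩
  obtain ⟨a, ha⟩ := hL.exists_card_eq
  have : ∑ x : L, ∑ i ∈ range q, χ (x ^ ((q + 1) * n + (i + 1))) = q * ∑ x, χ x := by
    rw [sum_comm]
    refine (sum_congr rfl fun i hi => (powCoprime (G := L) (n := (q + 1) * n + (i + 1)) ?_).sum_comp χ).trans (by simp)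
    rw [ha]
    exact .pow_left _ ((Nat.coprime_mul_left_add_right _ _ _).2
      (Nat.coprime_of_lt_prime (by omega) (by simpa using hi) hp.out))
  simp only [mul_add_one (q + 1), sum_range_add, sum_range_succ' _ q, sum_add_distrib, ih, this, sum_range_succ _ n]
  simp [pow_mul]
  ring

theorem navarro_rizo_action {L H : Type*} [Group L] [Fintype L] [Group H] [Finite H] (hL : IsPGroup p L)
    (φ : L →* MulAut H) (hs : Group.IsSolvable H) (hcop : (Nat.card H).Coprime (Nat.card L)) :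
    ∏ x, Nat.card (actFix φ (zpowers x)) ^ p = (∏ x, Nat.card (actFix φ (zpowers (x ^ p)))) *
      Nat.card (actFix φ ⊤) ^ ((p - 1) * Nat.card L) := by
  have I : ∀ B : Subgroup L, Fintype B := fun B => Fintype.ofFinite B
  have h := wielandt_action (ι := L ⊕ L ⊕ Unit) (Sum.elim zpowers (Sum.elim (fun x => zpowers (x ^ p)) fun _ => ⊤))
    (Sum.elim (fun x => p * Nat.card L / orderOf x) 0)
    (Sum.elim 0 (Sum.elim (fun x => Nat.card L / orderOf (x ^ p)) fun _ => (p - 1) * Nat.card L)) (fun q χ _ => by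
      have h2 : ∑ a : (⊤ : Subgroup L), χ a = ∑ x, χ x := Fintype.sum_equiv topEquiv.toEquiv _ _ fun _ => rfl
      have := nr_relation hL χ (Nat.card L)
      simp only [← sum_zpowers _ (orderOf_dvd_natCard _), ← sum_zpowers _ ((_root_.orderOf_dvd_natCard _).mul_left p),
        ← h2] at this
      simp at this ⊢
      exact this) φ hs hcop
  apply Nat.pow_left_injective (n := Nat.card L) Nat.card_pos.ne'
  simpa [Nat.div_mul_cancel (orderOf_dvd_natCard _), Nat.div_mul_cancel ((_root_.orderOf_dvd_natCard _).mul_left p), mul_pow,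
    ← prod_pow, ← pow_mul, -Nat.card_eq_fintype_card] using h

variable {G L : Type*} [Group G] [Finite G] [Group L] [Fintype L]

theorem navarro_rizo_solv (hL : IsPGroup p L) (f : L →* G) {U : Subgroup G} (hn : f.range ≤ normalizer (U : Set G))
    (hs : Group.IsSolvable U) (hcop : (Nat.card U).Coprime (Nat.card L)) :
    ∏ x, Nat.card (U ⊓ centralizer (zpowers (f x) : Set G) : Subgroup G) ^ p =
      (∏ x, Nat.card (U ⊓ centralizer (zpowers (f x ^ p) : Set G) : Subgroup G)) *
        Nat.card (U ⊓ centralizer (f.range : Set G) : Subgroup G) ^ ((p - 1) * Nat.card L) := by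
  let φ : L →* MulAut U := U.normalizerMonoidHom.comp (f.codRestrict _ fun x => hn ⟨x, rfl⟩)
  have hfix : ∀ A : Subgroup L, Nat.card (actFix φ A) =
      Nat.card (U ⊓ centralizer (A.map f : Set G) : Subgroup G) := fun A =>
    Nat.card_congr ⟨fun x => ⟨x.1.1, x.1.2, by
      rintro _ ⟨a, ha, rfl⟩
      exact mul_inv_eq_iff_eq_mul.1 (congrArg Subtype.val (x.2 a ha))⟩, fun y => ⟨⟨y.1, y.2.1⟩, fun a ha =>
        Subtype.ext (mul_inv_eq_iff_eq_mul.2 (y.2.2 _ ⟨a, ha, rfl⟩))⟩, fun _ => rfl, fun _ => rfl⟩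
  simpa only [hfix, ← MonoidHom.range_eq_map, MonoidHom.map_zpowers, map_pow] using navarro_rizo_action hL φ hs hcop

/-- The Navarro–Rizo formula. -/
theorem navarro_rizo (hL : IsPGroup p L) (f : L →* G) {U : Subgroup G} (hn : f.range ≤ normalizer (U : Set G))
    (hcop : (Nat.card U).Coprime (Nat.card L)) :
    ∏ x, Nat.card (U ⊓ centralizer (zpowers (f x) : Set G) : Subgroup G) ^ p =
      (∏ x, Nat.card (U ⊓ centralizer (zpowers (f x ^ p) : Set G) : Subgroup G)) *
        Nat.card (U ⊓ centralizer (f.range : Set G) : Subgroup G) ^ ((p - 1) * Nat.card L) := by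
  have pos : ∀ K : Subgroup G, Nat.card K ≠ 0 := fun K => Nat.card_pos.ne'
  have pp : ∀ f : L → Subgroup G, ∏ x, Nat.card (f x) ≠ 0 := fun f => prod_ne_zero_iff.2 fun _ _ => pos _
  rw [prod_pow]
  refine Nat.eq_of_factorization_eq (pow_ne_zero _ (pp _)) (mul_ne_zero (pp _) (pow_ne_zero _ (pos _))) fun q => ?_
  by_cases hq : q.Prime
  swap
  · simp [Nat.factorization_eq_zero_of_not_prime _ hq]
  have := Fact.mk hq
  have hs : ∀ X ≤ f.range, Group.IsSolvable X := fun X h => by
    have := ((hL.of_surjective _ f.rangeRestrict_surjective).to_le h).isNilpotent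
    infer_instance
  have hc := hcop.symm.coprime_dvd_left (card_range_dvd f)
  obtain ⟨S, h1, h2, h3, h4⟩ := Coprime.exists_invariant_sylow' q hn hc (.inl (hs _ le_rfl))
  have key : ∀ X ≤ f.range, (Nat.card (U ⊓ centralizer (X : Set G) : Subgroup G)).factorization q =
      (Nat.card (S ⊓ centralizer (X : Set G) : Subgroup G)).factorization q := fun X h => by
    rw [← card_mul_relIndex' (inf_le_inf_right _ h1), Nat.factorization_mul (pos _) (by exact index_ne_zero_of_finite),
      Finsupp.add_apply, Nat.factorization_eq_zero_of_not_dvd (Coprime.not_dvd_relIndex_inf_centralizer (h.trans hn)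
        (hc.coprime_dvd_left (card_dvd_of_le h)) (.inl (hs X h)) h1 h2 h3 (h.trans h4)), add_zero]
  have := h2.isNilpotent
  have := congrArg (Nat.factorization · q)
    (navarro_rizo_solv hL f h4 inferInstance (hcop.coprime_dvd_left (card_dvd_of_le h1)))
  simp only [prod_pow, Nat.factorization_pow] at this ⊢
  rw [Nat.factorization_mul (pp _) (pow_ne_zero _ (pos _)), Nat.factorization_prod fun _ _ => pos _,
    Nat.factorization_prod fun _ _ => pos _, Nat.factorization_pow] at this ⊢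
  simpa only [Finsupp.add_apply, Finsupp.smul_apply, Finsupp.finsetSum_apply, key _ (zpowers_le.2 ⟨_, rfl⟩),
    key _ (zpowers_le.2 (f.range.pow_mem ⟨_, rfl⟩ p)), key _ le_rfl] using this

theorem prod_card_sylow_le (hG : Cfsg.IsPSolvable p G) (P : Sylow p G) [Fintype P] :
    ∏ x : P, Nat.card {Q : Sylow p G // (x : G) ∈ (Q : Subgroup G)} ^ p ≤ Nat.card (Sylow p G) ^ Nat.card P := by
  obtain ⟨n, M, h0, hn, hmono, hnormal, hfac⟩ := hG
  let e : Fin n → Subgroup G → ℕ := fun i H => if ((M i.castSucc).relIndex (M i.succ)).Coprime p then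
    Nat.card {u : G // u ∈ M i.succ ∧ ∀ h ∈ H, h * u * h⁻¹ * u⁻¹ ∈ M i.castSucc} / Nat.card (M i.castSucc) else 1
  set N := Nat.card (normalizer ((P : Subgroup G) : Set G))
  have h1 : ∀ H ≤ (P : Subgroup G), Nat.card {Q : Sylow p G // H ≤ Q} * N = Nat.card P * ∏ i, e i H := fun H h =>
    (card_le_cj H P).symm.trans (card_le_cj_chain (P.isPGroup'.to_le h) P h0 hn hmono hnormal hfac)
  have h2 : ∀ i, ∏ x : P, e i (zpowers (x : G)) ^ p ≤ e i ⊥ ^ Nat.card P * e i P ^ ((p - 1) * Nat.card P) := fun i => by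
    have hAB := hmono i.castSucc_le_succ
    simp only [e]
    split_ifs with hc
    swap
    · simp
    simp only [card_cz _ _ _ hAB, Nat.mul_div_cancel_left _ Nat.card_pos, MonoidHom.map_zpowers]
    have := (hnormal i.succ).map _ (QuotientGroup.mk'_surjective (M i.castSucc))
    obtain ⟨k, hk⟩ := P.isPGroup'.exists_card_eq
    refine (navarro_rizo P.isPGroup' ((QuotientGroup.mk' _).comp (P : Subgroup G).subtype) le_normalizer_of_normal
      (by rw [hk, ← relIndex_ker, QuotientGroup.ker_mk']; exact hc.pow_right k)).trans_le (Nat.mul_le_mul ?_ ?_)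
    · rw [Nat.card_eq_fintype_card (α := P)]
      exact prod_le_pow_card _ _ _ fun x _ => card_le_of_le fun y hy => by simpa [mem_centralizer_iff] using hy.1
    · rw [MonoidHom.range_comp, range_subtype]
  have h3 := h1 ⊥ bot_le
  have h4 := h1 P le_rfl
  have : Unique {Q : Sylow p G // (P : Subgroup G) ≤ Q} :=
    ⟨⟨⟨P, le_rfl⟩⟩, fun Q => Subtype.ext (Sylow.ext (P.is_maximal' Q.1.isPGroup' Q.2))⟩
  simp only [bot_le, Nat.card_subtype_true, Nat.card_unique, one_mul] at h3 h4
  obtain ⟨q, rfl⟩ : ∃ q, p = q + 1 := ⟨p - 1, (Nat.sub_add_cancel hp.out.one_le).symm⟩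
  refine Nat.le_of_mul_le_mul_right (c := N ^ ((q + 1) * Nat.card P)) ?_ (pow_pos Nat.card_pos _)
  calc _ = ∏ x : P, (Nat.card {Q : Sylow (q + 1) G // zpowers (x : G) ≤ Q} * N) ^ (q + 1) := by
        simp [mul_pow, prod_mul_distrib, ← pow_mul]
    _ = Nat.card P ^ ((q + 1) * Nat.card P) * ∏ i, ∏ x : P, e i (zpowers (x : G)) ^ (q + 1) := by
        simp only [h1 _ (zpowers_le.2 (Subtype.prop _)), mul_pow, prod_mul_distrib, ← prod_pow]
        rw [prod_comm]
        simp [← pow_mul]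
    _ ≤ _ := (Nat.mul_le_mul_left _ (prod_le_prod' fun i _ => h2 i)).trans_eq (by
        rw [prod_mul_distrib, prod_pow, prod_pow, add_one_mul, pow_add N, mul_left_comm (_ ^ _) (N ^ _), ← mul_pow,
          h3, h4, Nat.add_sub_cancel]
        ring)

theorem card_pElements (P : Sylow p G) [Fintype P] : (Nat.card {g : G // ∃ k : ℕ, orderOf g = p ^ k} : ℝ) =
    Nat.card (Sylow p G) * ∑ x : P, (Nat.card {Q : Sylow p G // (x : G) ∈ (Q : Subgroup G)} : ℝ)⁻¹ := by
  classical
  have := Fintype.ofFinite G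
  have := Fintype.ofFinite (Sylow p G)
  let l : G → ℝ := fun x => (Nat.card {Q : Sylow p G // x ∈ (Q : Subgroup G)} : ℝ)⁻¹
  have h1 : ∀ Q : Sylow p G, ∑ x with x ∈ (Q : Subgroup G), l x = ∑ x : P, l x := fun Q => by
    obtain ⟨k, rfl⟩ := MulAction.exists_smul_eq G P Q
    rw [← sum_subtype {x | x ∈ (P : Subgroup G)} (by simp)]
    refine (sum_equiv (MulAut.conj k).toEquiv (fun x => by simp [coe_smul_sylow, mul_assoc]) fun x _ => ?_).symm
    exact congrArg (fun n : ℕ => (n : ℝ)⁻¹) (Nat.card_congr ((MulAction.toPerm k).subtypeEquiv fun Q => by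
      simp [coe_smul_sylow, mul_assoc]))
  rw [Nat.card_eq_fintype_card (α := Sylow p G), ← nsmul_eq_mul, ← card_univ, ← sum_const,
    ← sum_congr rfl fun Q _ => h1 Q, sum_comm' (t' := {g | ∃ k : ℕ, orderOf g = p ^ k})
      (s' := fun g => {Q : Sylow p G | g ∈ (Q : Subgroup G)}) (t := fun Q : Sylow p G => {x | x ∈ (Q : Subgroup G)})
      fun Q g => by simpa using fun h => isPGroup_zpowers_iff.1 (isPGroup_zpowers_of_mem Q.isPGroup' h),
    Nat.card_eq_fintype_card, Fintype.card_subtype, card_eq_sum_ones, Nat.cast_sum]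
  refine sum_congr rfl fun g hg => ?_
  obtain ⟨Q, hQ⟩ := (isPGroup_zpowers_iff.2 (mem_filter.1 hg).2).exists_le_sylow
  have : Nonempty {Q : Sylow p G // g ∈ (Q : Subgroup G)} := ⟨⟨Q, hQ (mem_zpowers g)⟩⟩
  rw [sum_const, nsmul_eq_mul, ← Fintype.card_subtype, ← Nat.card_eq_fintype_card,
    mul_inv_cancel₀ (by exact_mod_cast Nat.card_pos.ne'), Nat.cast_one]

theorem card_pElements_ge (hG : Cfsg.IsPSolvable p G) (P : Sylow p G) :
    Nat.card (P : Subgroup G) ^ p * Nat.card (Sylow p G) ^ (p - 1) ≤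
      Nat.card {g : G // ∃ k : ℕ, orderOf g = p ^ k} ^ p := by
  have := Fintype.ofFinite P
  have h1 := prod_card_sylow_le hG P
  set l : P → ℕ := fun x => Nat.card {Q : Sylow p G // (x : G) ∈ (Q : Subgroup G)}
  have h2 : ∀ x, (0 : ℝ) < l x := fun x => by
    have : Nonempty {Q : Sylow p G // (x : G) ∈ (Q : Subgroup G)} := ⟨⟨P, x.2⟩⟩
    exact_mod_cast Nat.card_pos
  have h3 := Real.geom_mean_le_arith_mean univ (fun _ => 1) (fun x => (l x : ℝ)⁻¹) (by simp)
    (by simp [Fintype.card_pos]) fun x _ => (inv_pos.2 (h2 x)).le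
  have h4 := card_pElements P
  simp only [Real.rpow_one, sum_const, card_univ, ← Nat.card_eq_fintype_card, nsmul_one, one_mul] at h3
  have hm : 0 < Nat.card P := Nat.card_pos
  have hn : 0 < Nat.card (Sylow p G) := Nat.card_pos
  change _ = _ * ∑ x, (l x : ℝ)⁻¹ at h4
  have h5 : 0 < ∏ x, (l x : ℝ) := prod_pos fun x _ => h2 x
  have h6 : 0 ≤ ∑ x, (l x : ℝ)⁻¹ := sum_nonneg fun x _ => (inv_pos.2 (h2 x)).le
  generalize Nat.card P = m, Nat.card (Sylow p G) = n, ∑ x, (l x : ℝ)⁻¹ = S at *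
  rw [prod_inv_distrib, Real.rpow_inv_le_iff_of_pos (by positivity) (by positivity) (by positivity), Real.rpow_natCast,
    inv_le_iff_one_le_mul₀ h5] at h3
  have h7 : (∏ x, (l x : ℝ)) ^ p ≤ n ^ m := by rw [← prod_pow]; exact_mod_cast h1
  have h8 : 1 ≤ (S / m) ^ p * n := (one_le_pow_iff_of_nonneg (by positivity) hm.ne').1 <| by
    rw [mul_pow, pow_right_comm]
    exact (one_le_pow₀ h3).trans (by rw [mul_pow]; gcongr)
  rw [div_pow, div_mul_eq_mul_div, one_le_div (by positivity)] at h8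
  rw [← Nat.cast_le (α := ℝ)]
  push_cast
  rw [h4, mul_pow, ← Nat.sub_add_cancel hp.out.one_le, pow_succ (n : ℝ), Nat.sub_add_cancel hp.out.one_le]
  nlinarith [pow_pos (Nat.cast_pos (α := ℝ).2 hn) (p - 1)]

end CfsgLib.GT
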